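-- helper27: fixed point lemma for a finite family of "affine" maps of a free group
-- (a finite group of automorphisms of the Cayley tree of `FreeGroup α`, acting through
-- letter permutations, fixes a vertex).  Word-norm descent, no trees.
import Mathlib

set_option autoImplicit false

namespace Cfsg.Agent.Lib.Helper27.LSF

universe u v

variable {α : Type u}

/-- The reduced word of `map f x` for injective `f`. -/
theorem toWord_map_inj [DecidableEq α] (f : α → α) (hf : Function.Injective f)
    (x : FreeGroup α) :
    (FreeGroup.map f x).toWord = x.toWord.map (fun p => (f p.1, p.2)) := by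
  conv_lhs => rw [← FreeGroup.mk_toWord (x := x), FreeGroup.map.mk, FreeGroup.toWord_mk]
  apply FreeGroup.IsReduced.reduce_eq
  have h := FreeGroup.isReduced_toWord (x := x)
  unfold FreeGroup.IsReduced at h ⊢
  rw [List.isChain_map]
  exact h.imp (fun a b hab h1 => hab (hf h1))

theorem norm_map_inj [DecidableEq α] (f : α → α) (hf : Function.Injective f)
    (x : FreeGroup α) : (FreeGroup.map f x).norm = x.norm := by
  unfold FreeGroup.norm
  rw [toWord_map_inj f hf, List.length_map]

theorem map_symm_map (σ : Equiv.Perm α) (x : FreeGroup α) :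
    FreeGroup.map σ.symm (FreeGroup.map σ x) = x := by
  rw [FreeGroup.map.comp]
  have : (⇑σ.symm ∘ ⇑σ) = id := by
    funext a
    simp
  rw [this, FreeGroup.map.id]

/-- No cancellation in `x⁻¹ * y` when the reduced words start with different letters. -/
theorem norm_inv_mul_of_head_ne [DecidableEq α] (x y : FreeGroup α) (a b : α × Bool)
    (hx : x.toWord.head? = some a) (hy : y.toWord.head? = some b) (hab : a ≠ b) :
    (x⁻¹ * y).norm = x.norm + y.norm := by
  unfold FreeGroup.norm
  rw [FreeGroup.toWord_mul, FreeGroup.toWord_inv]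
  have hred : FreeGroup.IsReduced (FreeGroup.invRev x.toWord ++ y.toWord) := by
    unfold FreeGroup.IsReduced
    apply List.IsChain.append
    · have := FreeGroup.isReduced_toWord (x := x⁻¹)
      rwa [FreeGroup.toWord_inv] at this
    · exact FreeGroup.isReduced_toWord
    · intro p hp q hq
      obtain ⟨L, hL⟩ := List.head?_eq_some_iff.mp hx
      rw [hL, FreeGroup.invRev_cons] at hp
      have hp' : p = (a.1, !a.2) := by
        simp [FreeGroup.invRev] at hp
        exact hp.symm
      rw [hy] at hq
      have hq' : q = b := by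
        simp at hq
        exact hq.symm
      subst hp' hq'
      intro h1
      obtain ⟨a1, a2⟩ := a
      obtain ⟨b1, b2⟩ := q
      simp only at h1
      subst h1
      have : a2 ≠ b2 := fun h => hab (by rw [h])
      cases a2 <;> cases b2 <;> simp_all
  rw [hred.reduce_eq, List.length_append, FreeGroup.invRev_length]

/-- Removing the first and the last letter. -/
theorem norm_strip [DecidableEq α] (x : FreeGroup α) (y z : α × Bool)
    (hhead : x.toWord.head? = some y) (hlast : x.toWord.getLast? = some z)
    (hlen : 2 ≤ x.norm) :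
    ((FreeGroup.mk [y])⁻¹ * x * (FreeGroup.mk [z])⁻¹).norm + 2 ≤ x.norm := by
  obtain ⟨T, hT⟩ := List.head?_eq_some_iff.mp hhead
  have hTne : T ≠ [] := by
    intro h
    unfold FreeGroup.norm at hlen
    rw [hT, h] at hlen
    simp at hlen
  obtain ⟨M, z', hM⟩ : ∃ M z', T = M ++ [z'] :=
    ⟨T.dropLast, T.getLast hTne, (List.dropLast_append_getLast hTne).symm⟩
  have hz : z' = z := by
    rw [hT, hM, ← List.cons_append, List.getLast?_concat] at hlast
    exact Option.some.inj hlast
  subst hz
  have hx : x = FreeGroup.mk [y] * FreeGroup.mk M * FreeGroup.mk [z'] := by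
    conv_lhs => rw [← FreeGroup.mk_toWord (x := x), hT, hM]
    simp [FreeGroup.mul_mk]
  have h1 : (FreeGroup.mk [y])⁻¹ * x * (FreeGroup.mk [z'])⁻¹ = FreeGroup.mk M := by
    rw [hx]
    group
  rw [h1]
  have h2 : (FreeGroup.mk M).norm ≤ M.length := FreeGroup.norm_mk_le
  have h3 : x.norm = M.length + 2 := by
    unfold FreeGroup.norm
    rw [hT, hM]
    simp
  omega

theorem tree_fix_aux [DecidableEq α] {H : Type v} [Fintype H] (σ : H → Equiv.Perm α) :
    ∀ (n : ℕ) (c : H → FreeGroup α), (∑ h, (c h).norm) ≤ n →
    (∀ h1 h2, ∃ h3, c h3 = c h1 * FreeGroup.map (σ h1) (c h2) ∧ σ h3 = σ h1 * σ h2) →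
    (∀ h, ∃ h', c h' = FreeGroup.map (σ h).symm ((c h)⁻¹) ∧ σ h' = (σ h).symm) →
    ∃ w : FreeGroup α, ∀ h, c h = w * FreeGroup.map (σ h) w⁻¹ := by
  intro n
  induction n with
  | zero =>
    intro c hn _ _
    refine ⟨1, fun h => ?_⟩
    have h0 : (c h).norm = 0 := by
      have := Finset.single_le_sum (f := fun h => (c h).norm) (fun i _ => Nat.zero_le _)
        (Finset.mem_univ h)
      have h' : (c h).norm ≤ ∑ h, (c h).norm := this
      omega
    simpa using FreeGroup.norm_eq_zero.mp h0
  | succ n ih =>
    intro c hn hmul hinv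
    by_cases hall : ∀ h, c h = 1
    · exact ⟨1, fun h => by simp [hall h]⟩
    obtain ⟨h0, hh0⟩ := not_forall.mp hall
    have : Nonempty H := ⟨h0⟩
    obtain ⟨h1, hmax⟩ := Finite.exists_max (fun h => (c h).norm)
    have hc1 : c h1 ≠ 1 := by
      intro h
      have h5 : (c h0).norm ≤ (c h1).norm := hmax h0
      rw [h, FreeGroup.norm_one] at h5
      exact hh0 (FreeGroup.norm_eq_zero.mp (by omega))
    have hw1 : (c h1).toWord ≠ [] := fun h => hc1 (FreeGroup.toWord_eq_nil_iff.mp h)
    obtain ⟨y, hy⟩ : ∃ y, (c h1).toWord.head? = some y := by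
      cases hL : (c h1).toWord with
      | nil => exact absurd hL hw1
      | cons a L => exact ⟨a, rfl⟩
    have hnormpos : ∀ h, c h ≠ 1 → 0 < (c h).norm := by
      intro h hh
      rcases Nat.eq_zero_or_pos (c h).norm with h0' | h0'
      · exact absurd (FreeGroup.norm_eq_zero.mp h0') hh
      · exact h0'
    -- Claim A
    have hA : ∀ h, c h ≠ 1 → (c h).toWord.head? = some y := by
      intro h2 hh2
      by_contra hne
      have hw2 : (c h2).toWord ≠ [] := fun h => hh2 (FreeGroup.toWord_eq_nil_iff.mp h)
      obtain ⟨y2, hy2⟩ : ∃ y2, (c h2).toWord.head? = some y2 := by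
        cases hL : (c h2).toWord with
        | nil => exact absurd hL hw2
        | cons a L => exact ⟨a, rfl⟩
      have hyy : y ≠ y2 := by
        intro h
        apply hne
        rw [hy2, h]
      obtain ⟨h', hc', hσ'⟩ := hinv h1
      obtain ⟨h3, hc3, _⟩ := hmul h' h2
      have e : c h3 = FreeGroup.map (σ h1).symm ((c h1)⁻¹ * c h2) := by
        rw [hc3, hc', hσ', map_mul]
      have hn3 : (c h3).norm = (c h1).norm + (c h2).norm := by
        rw [e, norm_map_inj _ (σ h1).symm.injective,
          norm_inv_mul_of_head_ne _ _ y y2 hy hy2 hyy]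
      have h5 : (c h3).norm ≤ (c h1).norm := hmax h3
      have h6 := hnormpos h2 hh2
      omega
    -- Claim B
    have hB : ∀ h, c h = 1 → σ h y.1 = y.1 := by
      intro h hh
      obtain ⟨h3, hc3, _⟩ := hmul h h1
      rw [hh, one_mul] at hc3
      have hne3 : c h3 ≠ 1 := by
        intro h
        have hn : (c h3).norm = (c h1).norm := by
          rw [hc3, norm_map_inj _ (σ _).injective]
        rw [h, FreeGroup.norm_one] at hn
        exact hc1 (FreeGroup.norm_eq_zero.mp hn.symm)
      have hhead := hA h3 hne3
      rw [hc3, toWord_map_inj _ (σ h).injective, List.head?_map, hy] at hhead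
      simp only [Option.map_some, Option.some.injEq] at hhead
      exact congrArg Prod.fst hhead
    -- Claim C
    have hC : ∀ h, c h ≠ 1 →
        (c h).toWord.getLast? = some (σ h y.1, !y.2) ∧ 2 ≤ (c h).norm := by
      intro h hh
      obtain ⟨h', hc', _⟩ := hinv h
      have hne' : c h' ≠ 1 := by
        intro h0'
        have hn : (c h').norm = (c h).norm := by
          rw [hc', norm_map_inj _ (σ h).symm.injective, FreeGroup.norm_inv_eq]
        rw [h0', FreeGroup.norm_one] at hn
        exact hh (FreeGroup.norm_eq_zero.mp hn.symm)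
      have hhead := hA h' hne'
      rw [hc', toWord_map_inj _ (σ h).symm.injective, FreeGroup.toWord_inv] at hhead
      have hw : (c h).toWord ≠ [] := fun h0' => hh (FreeGroup.toWord_eq_nil_iff.mp h0')
      obtain ⟨L0, z, hL⟩ : ∃ L0 z, (c h).toWord = L0 ++ [z] :=
        ⟨_, _, (List.dropLast_append_getLast hw).symm⟩
      rw [hL] at hhead
      simp only [FreeGroup.invRev, List.map_append, List.map_cons, List.map_nil,
        List.reverse_append, List.reverse_cons, List.reverse_nil, List.nil_append,
        List.cons_append, List.head?_cons, Option.some.injEq] at hhead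
      have hz1 : z.1 = σ h y.1 := by
        have := congrArg Prod.fst hhead
        simp only at this
        rw [← this]
        simp
      have hz2 : z.2 = !y.2 := by
        have := congrArg Prod.snd hhead
        simp only at this
        rw [← this]
        simp
      have hzz : z = (σ h y.1, !y.2) := Prod.ext hz1 hz2
      have hlast : (c h).toWord.getLast? = some (σ h y.1, !y.2) := by
        rw [hL, ← hzz]
        simp
      refine ⟨hlast, ?_⟩
      obtain ⟨T, hT⟩ := List.head?_eq_some_iff.mp (hA h hh)
      unfold FreeGroup.norm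
      rw [hT]
      rcases T with _ | ⟨t, T'⟩
      · exfalso
        rw [hT] at hlast
        simp only [List.getLast?_singleton, Option.some.injEq] at hlast
        have := congrArg Prod.snd hlast
        simp only at this
        cases hb : y.2 <;> simp [hb] at this
      · simp
    -- the descent
    set w0 : FreeGroup α := FreeGroup.mk [y] with hw0
    have hmapw0 : ∀ h, FreeGroup.map (σ h) w0 = FreeGroup.mk [(σ h y.1, y.2)] := by
      intro h
      rw [hw0, FreeGroup.map.mk]
      rfl
    let c' : H → FreeGroup α := fun h => w0⁻¹ * c h * FreeGroup.map (σ h) w0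
    have hc'1 : ∀ h, c h = 1 → c' h = 1 := by
      intro h hh
      have : FreeGroup.map (σ h) w0 = w0 := by
        rw [hmapw0, hw0, hB h hh]
      simp only [c', hh, this]
      group
    have hc'2 : ∀ h, c h ≠ 1 → (c' h).norm + 2 ≤ (c h).norm := by
      intro h hh
      obtain ⟨hl, h2⟩ := hC h hh
      have hinvz : FreeGroup.map (σ h) w0 = (FreeGroup.mk [(σ h y.1, !y.2)])⁻¹ := by
        rw [hmapw0, FreeGroup.inv_mk]
        simp [FreeGroup.invRev]
      simp only [c']
      rw [hinvz]
      exact norm_strip (c h) y _ (hA h hh) hl h2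
    have hsum : (∑ h, (c' h).norm) < ∑ h, (c h).norm := by
      apply Finset.sum_lt_sum
      · intro h _
        by_cases hh : c h = 1
        · rw [hc'1 h hh, hh]
        · have := hc'2 h hh
          omega
      · exact ⟨h1, Finset.mem_univ _, by have := hc'2 h1 hc1; omega⟩
    have hmul' : ∀ h1 h2, ∃ h3, c' h3 = c' h1 * FreeGroup.map (σ h1) (c' h2) ∧
        σ h3 = σ h1 * σ h2 := by
      intro a b
      obtain ⟨h3, hc3, hσ3⟩ := hmul a b
      refine ⟨h3, ?_, hσ3⟩
      simp only [c']
      rw [hc3, hσ3, Equiv.Perm.coe_mul, ← FreeGroup.map.comp]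
      simp only [map_mul, map_inv]
      group
    have hinv' : ∀ h, ∃ h', c' h' = FreeGroup.map (σ h).symm ((c' h)⁻¹) ∧
        σ h' = (σ h).symm := by
      intro a
      obtain ⟨h', hc', hσ'⟩ := hinv a
      refine ⟨h', ?_, hσ'⟩
      simp only [c']
      rw [hc', hσ']
      simp only [map_mul, map_inv, mul_inv_rev, inv_inv, map_symm_map]
      group
    obtain ⟨w', hw'⟩ := ih c' (by omega) hmul' hinv'
    refine ⟨w0 * w', fun h => ?_⟩
    have := hw' h
    simp only [c'] at this
    have e : c h = w0 * (w' * FreeGroup.map (σ h) w'⁻¹) * (FreeGroup.map (σ h) w0)⁻¹ := by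
      rw [← this]
      group
    rw [e]
    simp only [map_mul, map_inv, mul_inv_rev]
    group

/-- **Fixed point lemma.**  A finite family of affine maps `v ↦ c h * σ_h(v)` of `FreeGroup α`
(`σ_h` a permutation of the letters) that is closed under composition and inverses has a common
fixed point `w`: `c h = w * σ_h(w)⁻¹` for all `h`. -/
theorem tree_fix {H : Type v} [Finite H] (c : H → FreeGroup α) (σ : H → Equiv.Perm α)
    (hmul : ∀ h1 h2, ∃ h3, c h3 = c h1 * FreeGroup.map (σ h1) (c h2) ∧ σ h3 = σ h1 * σ h2)
    (hinv : ∀ h, ∃ h', c h' = FreeGroup.map (σ h).symm ((c h)⁻¹) ∧ σ h' = (σ h).symm) :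
    ∃ w : FreeGroup α, ∀ h, c h = w * FreeGroup.map (σ h) w⁻¹ := by
  classical
  have := Fintype.ofFinite H
  exact tree_fix_aux σ _ c le_rfl hmul hinv

end Cfsg.Agent.Lib.Helper27.LSF
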